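import Cfsg.Agent.Lib.CosetEnum.U62Pres.SubE.TabF_Data0
import Cfsg.Agent.Lib.CosetEnum.U62Pres.SubE.TabC_Data0
import Cfsg.Agent.Lib.CosetEnum.U62Pres.SubE.TabZ_Data0
import Cfsg.Agent.Lib.CosetEnum.U62Pres.SubE.TabP_Data0

/-! Generated certificate. -/

set_option autoImplicit false
set_option maxRecDepth 20000

namespace Cfsg.Lib.CosetEnum.U62Pres.SubE

/-- Table. -/
def tabF : Tab :=
  tabF_0

/-- Table. -/
def tabC : Tab :=
  tabC_0

/-- Table. -/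
def tabZ : Tab :=
  tabZ_0

/-- Table. -/
def tabP : Tab :=
  tabP_0

/-- The shifts in use. -/
def relWords : List (List Nat) :=
  [[0, 0],
    [1, 1],
    [2, 2],
    [3, 3],
    [5, 5],
    [6, 6],
    [0, 1, 0, 1, 0, 1],
    [0, 2, 0, 2],
    [0, 3, 0, 3],
    [0, 5, 0, 5],
    [0, 6, 0, 6],
    [1, 2, 1, 2, 1, 2],
    [1, 3, 1, 3],
    [1, 5, 1, 5, 1, 5],
    [1, 6, 1, 6],
    [2, 3, 2, 3, 2, 3],
    [2, 5, 2, 5],
    [2, 6, 2, 6],
    [3, 5, 3, 5],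
    [3, 6, 3, 6],
    [5, 6, 5, 6, 5, 6],
    []]

/-- Subgroup words. -/
def subWords : List (List Nat) :=
  [[0],
    [1],
    [2],
    [5],
    [6]]

/-- The certificate. -/
def step : StepCert :=
  ⟨relWords, subWords, [0, 1, 2, 3, 5, 6], tabF, tabC, tabZ, tabP, 72, 272, 27, 8⟩

end Cfsg.Lib.CosetEnum.U62Pres.SubE
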